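import Cfsg.Agent.Spor.Chk

set_option autoImplicit false
set_option maxRecDepth 100000000
set_option Elab.async false
noncomputable section

namespace Cfsg.Agent.Spor.J3c

def m0_0 : Nat := nat_lit 0x503c
def m0_1 : Nat := nat_lit 0x120004
def m0_2 : Nat := nat_lit 0x50e0a01
def m0_3 : Nat := nat_lit 0x100000
def m0_4 : Nat := nat_lit 0x1410141
def m0_5 : Nat := nat_lit 0x1000220
def m0_6 : Nat := nat_lit 0x6
def m0_7 : Nat := nat_lit 0x5200a8
def m0_8 : Nat := nat_lit 0x5782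
def n0 : Net := Net.cons 16 m0_0 (Net.cons 8 m0_1 (Net.cons 4 m0_2 (Net.cons 2 m0_3 (Net.cons 1 m0_4 (Net.cons 2 m0_5 (Net.cons 4 m0_6 (Net.cons 8 m0_7 (Net.cons 16 m0_8 (Net.nil)))))))))

def m1_0 : Nat := nat_lit 0x15c6
def m1_1 : Nat := nat_lit 0x17000b
def m1_2 : Nat := nat_lit 0x1060806
def m1_3 : Nat := nat_lit 0x1221000
def m1_4 : Nat := nat_lit 0x11141
def m1_5 : Nat := nat_lit 0x1121
def m1_6 : Nat := nat_lit 0x20201
def m1_7 : Nat := nat_lit 0x10060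
def m1_8 : Nat := nat_lit 0x1713
def n1 : Net := Net.cons 16 m1_0 (Net.cons 8 m1_1 (Net.cons 4 m1_2 (Net.cons 2 m1_3 (Net.cons 1 m1_4 (Net.cons 2 m1_5 (Net.cons 4 m1_6 (Net.cons 8 m1_7 (Net.cons 16 m1_8 (Net.nil)))))))))

def m2_0 : Nat := nat_lit 0xd278
def m2_1 : Nat := nat_lit 0x220004
def m2_2 : Nat := nat_lit 0x3060302
def m2_3 : Nat := nat_lit 0x31200031
def m2_4 : Nat := nat_lit 0x41541450
def m2_5 : Nat := nat_lit 0x1010200
def m2_6 : Nat := nat_lit 0x2030c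
def m2_7 : Nat := nat_lit 0xb40007
def m2_8 : Nat := nat_lit 0xd039
def n2 : Net := Net.cons 16 m2_0 (Net.cons 8 m2_1 (Net.cons 4 m2_2 (Net.cons 2 m2_3 (Net.cons 1 m2_4 (Net.cons 2 m2_5 (Net.cons 4 m2_6 (Net.cons 8 m2_7 (Net.cons 16 m2_8 (Net.nil)))))))))

def ip1 : List Nat := [0x7c75670, 0x225832a, 0x57aadcc]
def l1 : Let := ⟨0, false, 0x7ffffff, 0x2, [0x484ff90, 0x707afee, 0x780000]⟩

def ip2 : List Nat := [0x7f7f670, 0x55624c4, 0x885918]
def l2 : Let := ⟨1, false, 0x7ffffff, 0x84, [0x23bfa20, 0x45e7ddc, 0x1800000]⟩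

def ip3 : List Nat := [0x576a660, 0x288b28, 0x2815010]
def l3 : Let := ⟨2, false, 0x7ffffff, 0x80908, [0x5f7e440, 0xa9db38, 0x2000000]⟩

def ip4 : List Nat := [0x2a80182, 0x55274d0, 0x7ffa760]
def l4 : Let := ⟨0, true, 0x7ffffff, 0x805010, [0x7f5002, 0x7ff7f0, 0x7800000]⟩

def ip5 : List Nat := [0x7881884, 0x298a20, 0x7d63440]
def l5 : Let := ⟨1, true, 0x7ffffff, 0x2218220, [0x1e58084, 0x1ffbe60, 0x6000000]⟩

def ip6 : List Nat := [0x288908, 0x176a440, 0x6804000]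
def l6 : Let := ⟨2, true, 0x7ffffff, 0x5562440, [0x34e0908, 0x3f6e440, 0x4000000]⟩

def NT : List Net := [n0, n1, n2]
def LT : List Let := [⟨0, false, 0, 0, []⟩, l1, l2, l3, l4, l5, l6]
def T : Tab := ⟨NT, LT⟩
def EX : List (List Nat) := [[], [0], [2], [4], [1], [3], [5]]
def RL : List (List Nat) := [[5, 3, 4, 2], [2, 2, 2], [3, 1, 2, 0], [5, 1, 4, 0], [0, 0, 0], [4, 4, 4]]
def XL : List (List Nat) := []
def BW : List (List Nat) := []
def IV : Nat := 0x3020106050400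
def L : List Nat := [1, 2, 3, 4, 5, 6]
def gs : List Nat := [1, 2, 3]
def base : List Nat := []

end Cfsg.Agent.Spor.J3c
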